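import Groth.Agent.ProjLib.Descent
import Mathlib

/-! Retractions of square-zero neighbourhood algebras which locally have the lifting property. -/

set_option autoImplicit false
universe u

open TensorProduct

namespace FSmLib

variable {A E : Type u} [CommRing A] [CommRing E] [Algebra A E] (I : Ideal A)

/-- The lifting property of `π : E → A ⧸ I` for algebras in which `g` is invertible. -/
def HasLifts (π : E →ₐ[A] A ⧸ I) (g : A) : Prop :=
  ∀ (C : Type u) [CommRing C] [Algebra A C], IsUnit (algebraMap A C g) →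
    ∀ (N M : Ideal C), N ≤ M → M ^ 2 = ⊥ → ∀ φ : E →ₐ[A] C ⧸ N,
      (∀ e, π e = 0 → φ e ∈ M.map (Ideal.Quotient.mk N)) →
      ∃ ψ : E →ₐ[A] C, (Ideal.Quotient.mkₐ A N).comp ψ = φ

variable {I}

/-- `E` modulo `I`. -/
abbrev Red (I : Ideal A) (E : Type u) [CommRing E] [Algebra A E] : Type u :=
  E ⧸ I.map (algebraMap A E)

/-- The induced map on the reduction. -/
noncomputable def redMap (π : E →ₐ[A] A ⧸ I) : Red I E →ₐ[A] A ⧸ I :=
  Ideal.Quotient.liftₐ _ π fun a ha ↦ by
    refine (Ideal.map_le_iff_le_comap (K := RingHom.ker π.toRingHom)).mpr (fun x hx ↦ ?_) ha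
    rw [Ideal.mem_comap, RingHom.mem_ker]
    exact (π.commutes x).trans (Ideal.Quotient.eq_zero_iff_mem.mpr hx)

theorem redMap_mk (π : E →ₐ[A] A ⧸ I) (e : E) : redMap π (Ideal.Quotient.mk _ e) = π e := rfl

theorem redMap_algebraMap (π : E →ₐ[A] A ⧸ I) (a : A ⧸ I) :
    redMap π (algebraMap (A ⧸ I) (Red I E) a) = a := by
  obtain ⟨a, rfl⟩ := Ideal.Quotient.mk_surjective a
  exact π.commutes a

/-- The kernel of the reduction. -/
noncomputable def Kred (π : E →ₐ[A] A ⧸ I) : Submodule (A ⧸ I) (Red I E) where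
  carrier := {x | redMap π x = 0}
  zero_mem' := map_zero _
  add_mem' {x y} hx hy := by simp only [Set.mem_setOf_eq, map_add] at *; rw [hx, hy, add_zero]
  smul_mem' c x hx := by
    simp only [Set.mem_setOf_eq, Algebra.smul_def, map_mul] at *
    rw [hx, mul_zero]

/-- The derivation-like projection to the kernel of the reduction. -/
noncomputable def dee (π : E →ₐ[A] A ⧸ I) : E →ₗ[A] Kred π where
  toFun e := ⟨Ideal.Quotient.mk _ e - algebraMap (A ⧸ I) (Red I E) (π e), by
    show redMap π _ = 0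
    rw [map_sub, redMap_algebraMap, redMap_mk, sub_self]⟩
  map_add' x y := Subtype.ext (by simp [map_add]; ring)
  map_smul' c x := Subtype.ext (by
    simp only [RingHom.id_apply, SetLike.val_smul_of_tower, Algebra.smul_def, map_mul,
      AlgHom.commutes, IsScalarTower.algebraMap_apply A E (Red I E)]
    rw [mul_sub]
    congr 2
    )

theorem dee_of_ker (π : E →ₐ[A] A ⧸ I) {e : E} (he : π e = 0) :
    (dee π e : Red I E) = Ideal.Quotient.mk _ e := by
  simp [dee, he]

theorem dee_surjective (π : E →ₐ[A] A ⧸ I) (x : Kred π) : ∃ e, π e = 0 ∧ dee π e = x := by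
  obtain ⟨e, he⟩ := Ideal.Quotient.mk_surjective (x : Red I E)
  have h0 : π e = 0 := by
    have : redMap π (x : Red I E) = 0 := x.2
    rwa [← he] at this
  exact ⟨e, h0, Subtype.ext ((dee_of_ker π h0).trans he)⟩

theorem algebraMap_injective (hI : I ^ 2 = ⊥) (π : E →ₐ[A] A ⧸ I) {κ : Type} (g : κ → A)
    (hg : Ideal.span (Set.range g) = ⊤) (hlift : ∀ k, HasLifts I π (g k)) :
    Function.Injective (algebraMap A E) := by
  rw [injective_iff_map_eq_zero]
  intro a ha
  have key : ∀ k, algebraMap A (Localization.Away (g k)) a = 0 := by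
    intro k
    let L := Localization.Away (g k)
    let N : Ideal L := I.map (algebraMap A L)
    let φ : E →ₐ[A] L ⧸ N := (Ideal.Quotient.liftₐ I (Algebra.ofId A (L ⧸ N)) (fun x hx ↦ by
      show Ideal.Quotient.mk N (algebraMap A L x) = 0
      exact Ideal.Quotient.eq_zero_iff_mem.mpr (Ideal.mem_map_of_mem _ hx))).comp π
    obtain ⟨ψ, -⟩ := hlift k L (IsLocalization.Away.algebraMap_isUnit (g k)) N N le_rfl
      (by rw [← Ideal.map_pow, hI, Ideal.map_bot]) φ fun e he ↦ by
        show φ e ∈ _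
        simp [φ, he]
    rw [← ψ.commutes, ha, map_zero]
  have hann : Ideal.span (Set.range g) ≤ (Submodule.span A {a}).annihilator.radical := by
    rw [Ideal.span_le]
    rintro _ ⟨k, rfl⟩
    obtain ⟨⟨_, n, rfl⟩, hn⟩ := (IsLocalization.map_eq_zero_iff (Submonoid.powers (g k))
      (Localization.Away (g k)) a).mp (key k)
    exact ⟨n, (Submodule.mem_annihilator_span_singleton a _).mpr hn⟩
  rw [hg, top_le_iff, Ideal.radical_eq_top] at hann
  exact (one_smul A a).symm.trans
    ((Submodule.mem_annihilator_span_singleton a 1).mp (hann ▸ Submodule.mem_top))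

theorem exists_lift_loc (π : E →ₐ[A] A ⧸ I) (hQ : ∀ x y, π x = 0 → π y = 0 → x * y = 0)
    (g : A) (hlift : HasLifts I π g) (R : Type u) [CommRing R] [Algebra (A ⧸ I) R]
    (hg : IsUnit (algebraMap (A ⧸ I) R (Ideal.Quotient.mk I g))) (N M : Type u) [AddCommGroup N]
    [AddCommGroup M] [Module R N] [Module R M] [Module (A ⧸ I) N] [Module (A ⧸ I) M]
    [IsScalarTower (A ⧸ I) R N] [IsScalarTower (A ⧸ I) R M]
    (f : N →ₗ[R] M) (hf : Function.Surjective f) (h : Kred π →ₗ[A ⧸ I] M) :
    ∃ h' : Kred π →ₗ[A ⧸ I] N, ∀ p, f (h' p) = h p := by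
  letI : Module Rᵐᵒᵖ N := Module.compHom N ((RingHom.id R).fromOpposite mul_comm)
  letI : Module Rᵐᵒᵖ M := Module.compHom M ((RingHom.id R).fromOpposite mul_comm)
  haveI : IsCentralScalar R N := ⟨fun _ _ ↦ rfl⟩
  haveI : IsCentralScalar R M := ⟨fun _ _ ↦ rfl⟩
  let ιR : A →+* R := (algebraMap (A ⧸ I) R).comp (Ideal.Quotient.mk I)
  letI : Algebra A (TrivSqZeroExt R N) := ((TrivSqZeroExt.inlHom R N).comp ιR).toAlgebra
  letI : Algebra A (TrivSqZeroExt R M) := ((TrivSqZeroExt.inlHom R M).comp ιR).toAlgebra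
  let F : (TrivSqZeroExt R N) →ₐ[A] (TrivSqZeroExt R M) :=
    { (TrivSqZeroExt.map f).toRingHom with
      commutes' := fun a ↦ TrivSqZeroExt.map_inl f (ιR a) }
  have hF : Function.Surjective F := fun c ↦ by
    obtain ⟨n, hn⟩ := hf c.snd
    exact ⟨(c.fst, n), TrivSqZeroExt.ext (TrivSqZeroExt.fst_map f _) ((TrivSqZeroExt.snd_map f _).trans hn)⟩
  let φ' : E →ₐ[A] (TrivSqZeroExt R M) :=
    { toFun := fun e ↦ TrivSqZeroExt.inl (algebraMap (A ⧸ I) R (π e)) +
        TrivSqZeroExt.inr (h (dee π e))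
      map_one' := by
        have : dee π (1 : E) = 0 := Subtype.ext (by simp [dee])
        simp [this]
      map_zero' := by simp
      map_add' := fun x y ↦ by simp only [map_add, TrivSqZeroExt.inl_add, TrivSqZeroExt.inr_add]; abel
      map_mul' := fun x y ↦ by
        have hd : dee π (x * y) = π x • dee π y + π y • dee π x := Subtype.ext (by
          obtain ⟨a, ha⟩ := Ideal.Quotient.mk_surjective (π x)
          obtain ⟨b, hb⟩ := Ideal.Quotient.mk_surjective (π y)
          have h0 : (x - algebraMap A E a) * (y - algebraMap A E b) = 0 :=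
            hQ _ _ (by rw [map_sub, AlgHom.commutes, ← ha]; exact sub_self _)
              (by rw [map_sub, AlgHom.commutes, ← hb]; exact sub_self _)
          have h1 := congr_arg (Ideal.Quotient.mk (I.map (algebraMap A E))) h0
          simp only [dee, LinearMap.coe_mk, AddHom.coe_mk, map_mul, Submodule.coe_add,
            SetLike.val_smul, Algebra.smul_def]
          rw [map_mul, map_zero, map_sub, map_sub] at h1
          have e1 : ∀ c : A, Ideal.Quotient.mk (I.map (algebraMap A E)) (algebraMap A E c) =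
              algebraMap (A ⧸ I) (Red I E) (Ideal.Quotient.mk I c) := fun c ↦ rfl
          rw [e1, e1, ha, hb] at h1
          linear_combination h1)
        refine TrivSqZeroExt.ext ?_ ?_
        · simp
        · simp [hd, IsScalarTower.algebraMap_smul]
      commutes' := fun a ↦ by
        have : dee π (algebraMap A E a) = 0 := Subtype.ext (by
          simp only [dee, LinearMap.coe_mk, AddHom.coe_mk, AlgHom.commutes, ZeroMemClass.coe_zero]
          exact sub_self _)
        simp [this, RingHom.algebraMap_toAlgebra, ιR, Ideal.Quotient.algebraMap_eq] }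
  let N₀ : Ideal (TrivSqZeroExt R N) := RingHom.ker F.toRingHom
  let M₀ : Ideal (TrivSqZeroExt R N) := RingHom.ker (TrivSqZeroExt.fstHom R R N).toRingHom
  have hM₀ : M₀ ^ 2 = ⊥ := by
    rw [pow_two, eq_bot_iff, Ideal.mul_le]
    intro x hx y hy
    rw [Ideal.mem_bot]
    have hx' : x.fst = 0 := hx
    have hy' : y.fst = 0 := hy
    exact TrivSqZeroExt.ext (by simp [hx']) (by simp [hx', hy'])
  have hNM : N₀ ≤ M₀ := fun x hx ↦ by
    have := congr_arg TrivSqZeroExt.fst (show F x = 0 from hx)
    exact (TrivSqZeroExt.fst_map f x).symm.trans this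
  let e : ((TrivSqZeroExt R N) ⧸ N₀) ≃ₐ[A] (TrivSqZeroExt R M) := Ideal.quotientKerAlgEquivOfSurjective hF
  have hu : IsUnit (algebraMap A (TrivSqZeroExt R N) g) := by
    rw [RingHom.algebraMap_toAlgebra]
    exact hg.map (TrivSqZeroExt.inlHom R N)
  obtain ⟨ψ, hψ⟩ := hlift (TrivSqZeroExt R N) hu N₀ M₀ hNM hM₀ (e.symm.toAlgHom.comp φ') fun x hx ↦ by
    obtain ⟨n, hn⟩ := hf (h (dee π x))
    refine (Ideal.mem_map_iff_of_surjective _ Ideal.Quotient.mk_surjective).mpr
      ⟨TrivSqZeroExt.inr n, TrivSqZeroExt.fst_inr R n, e.injective ?_⟩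
    simp only [AlgHom.comp_apply, AlgEquiv.coe_toAlgHom, AlgEquiv.apply_symm_apply]
    show F (TrivSqZeroExt.inr n) = φ' x
    refine TrivSqZeroExt.ext ?_ ?_
    · simp [φ', F, hx]
    · simp [φ', F, hn]
  have hψ' : ∀ x, F (ψ x) = φ' x := fun x ↦ by
    have := congr_arg e (DFunLike.congr_fun hψ x)
    exact this.trans (e.apply_symm_apply _)
  choose lift hlift₀ hlift₁ using dee_surjective π
  let hh : E →ₗ[A] (TrivSqZeroExt R N) := ψ.toLinearMap
  have hsnd : ∀ x y : E, π x = 0 → π y = 0 → dee π x = dee π y → (ψ x).snd = (ψ y).snd := by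
    intro x y hx hy hxy
    have hmem : x - y ∈ I.map (algebraMap A E) := by
      rw [← Ideal.Quotient.eq, ← dee_of_ker π hx, ← dee_of_ker π hy, hxy]
    have hz : ψ (x - y) = 0 := by
      have : (I.map (algebraMap A E)).map ψ.toRingHom = ⊥ := by
        rw [Ideal.map_map, show ψ.toRingHom.comp (algebraMap A E) = algebraMap A (TrivSqZeroExt R N) from ψ.comp_algebraMap,
          Ideal.map_eq_bot_iff_le_ker]
        intro i hi
        rw [RingHom.mem_ker, RingHom.algebraMap_toAlgebra]
        simp [ιR, Ideal.Quotient.eq_zero_iff_mem.mpr hi]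
      exact (Submodule.mem_bot (TrivSqZeroExt R N)).mp (this ▸ Ideal.mem_map_of_mem ψ.toRingHom hmem)
    rw [map_sub, sub_eq_zero] at hz
    rw [hz]
  refine ⟨{ toFun := fun p ↦ (ψ (lift p)).snd
            map_add' := fun p q ↦ ?_
            map_smul' := fun c p ↦ ?_ }, fun p ↦ ?_⟩
  · rw [← TrivSqZeroExt.snd_add, ← map_add]
    refine hsnd _ _ (hlift₀ _) (by rw [map_add, hlift₀, hlift₀, add_zero]) ?_
    rw [map_add, hlift₁, hlift₁, hlift₁]
  · obtain ⟨a, rfl⟩ := Ideal.Quotient.mk_surjective c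
    rw [RingHom.id_apply, hsnd (lift (Ideal.Quotient.mk I a • p)) (a • lift p) (hlift₀ _)
      (by rw [map_smul, hlift₀, smul_zero]) (by rw [map_smul, hlift₁, hlift₁]; rfl),
      map_smul, Algebra.smul_def, RingHom.algebraMap_toAlgebra]
    simp [ιR, IsScalarTower.algebraMap_smul]
  · show f (ψ (lift p)).snd = h p
    rw [← TrivSqZeroExt.snd_map f]
    show (F (ψ (lift p))).snd = _
    rw [hψ']
    simp [φ', hlift₁]

theorem projective_kred (π : E →ₐ[A] A ⧸ I) (hQ : ∀ x y, π x = 0 → π y = 0 → x * y = 0)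
    {κ : Type} [Fintype κ] (g : κ → A) (hg : Ideal.span (Set.range g) = ⊤)
    (hlift : ∀ k, HasLifts I π (g k)) : Module.Projective (A ⧸ I) (Kred π) := by
  classical
  let B := A ⧸ I
  let R : κ → Type u := fun k ↦ Localization.Away (Ideal.Quotient.mk I (g k))
  let S := ∀ k, R k
  have : Module.Flat B S :=
    Module.Flat.of_linearEquiv (DirectSum.linearEquivFunOnFintype B κ R).symm
  have : Module.FaithfullyFlat B S := ⟨fun m hm heq ↦ by
    obtain ⟨k, hk⟩ : ∃ k, g k ∉ m.comap (Ideal.Quotient.mk I) := by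
      by_contra! hall
      refine (Ideal.comap_ne_top (Ideal.Quotient.mk I) hm.ne_top) (top_le_iff.mp ?_)
      rw [← hg, Ideal.span_le]
      rintro _ ⟨k, rfl⟩
      exact hall k
    obtain ⟨Q, hQ', hcomap⟩ : ∃ Q : Ideal (R k), Q.IsPrime ∧ Q.comap (algebraMap B (R k)) = m :=
      ⟨m.map (algebraMap B (R k)),
        IsLocalization.isPrime_of_isPrime_disjoint (Submonoid.powers _) _ m hm.isPrime
          ((Ideal.disjoint_powers_iff_notMem _ hm.isPrime.isRadical).mpr hk),
        IsLocalization.comap_map_of_isPrime_disjoint (Submonoid.powers _) _ hm.isPrime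
          ((Ideal.disjoint_powers_iff_notMem _ hm.isPrime.isRadical).mpr hk)⟩
    have hle : m • (⊤ : Submodule B S) ≤
        (Q.restrictScalars B).comap (LinearMap.proj (R := B) k) := by
      rw [Submodule.smul_le]
      intro r hr x _
      show r • x k ∈ Q
      rw [Algebra.smul_def]
      exact Q.mul_mem_right _ (show r ∈ Q.comap (algebraMap B (R k)) by rw [hcomap]; exact hr)
    exact hQ'.ne_top ((Ideal.eq_top_iff_one _).mpr (hle (heq ▸ Submodule.mem_top (x := (1 : S)))))⟩
  suffices Module.Projective S (S ⊗[B] Kred π) from ProjLib.projective_of_faithfullyFlat B (Kred π) S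
  refine Module.Projective.of_lifting_property'' fun f hf ↦ ?_
  let N := (S ⊗[B] Kred π) →₀ S
  let M := S ⊗[B] Kred π
  let h₀ : Kred π →ₗ[B] M := TensorProduct.mk B S (Kred π) 1
  let h : ∀ k, ∃ hk : Kred π →ₗ[B] N, ∀ p, f (hk p) = Pi.single k (1 : R k) • h₀ p := by
    intro k
    letI : Algebra S (R k) := (Pi.evalRingHom R k).toAlgebra
    haveI : IsScalarTower B S (R k) := IsScalarTower.of_algebraMap_eq fun _ ↦ rfl
    let fk : R k ⊗[S] N →ₗ[R k] R k ⊗[S] M := f.baseChange (R k)
    have hfk : Function.Surjective fk := LinearMap.lTensor_surjective (R k) hf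
    have hu : IsUnit (algebraMap B (R k) (Ideal.Quotient.mk I (g k))) :=
      IsLocalization.Away.algebraMap_isUnit _
    obtain ⟨hk, hhk⟩ := exists_lift_loc π hQ (g k) (hlift k) (R k) hu (R k ⊗[S] N) (R k ⊗[S] M)
      fk hfk (((TensorProduct.mk S (R k) M 1).restrictScalars B).comp h₀)
    have hsingle : ∀ (c : S) (x : R k), Pi.single k (c k * x) = c * Pi.single k x := fun c x ↦ by
      funext j
      rcases eq_or_ne j k with rfl | hjk
      · show Pi.single (M := R) j (c j * x) j = c j * Pi.single (M := R) j x j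
        rw [Pi.single_eq_same, Pi.single_eq_same]
      · show Pi.single (M := R) k (c k * x) j = c j * Pi.single (M := R) k x j
        rw [Pi.single_eq_of_ne hjk, Pi.single_eq_of_ne hjk, mul_zero]
    have emb : ∀ (X : Type u) [AddCommGroup X] [Module S X],
        ∃ F : R k ⊗[S] X →ₗ[S] X, ∀ x y, F (x ⊗ₜ y) = (Pi.single k x : S) • y := by
      intro X _ _
      refine ⟨TensorProduct.lift (LinearMap.mk₂ S (fun (x : R k) (y : X) ↦ (Pi.single k x : S) • y)
        (fun x x' y ↦ by rw [Pi.single_add, add_smul]) (fun c x y ↦ ?_)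
        (fun x y y' ↦ smul_add _ _ _) (fun c x y ↦ smul_comm _ _ _)), fun x y ↦ rfl⟩
      show (Pi.single k (c k * x) : S) • y = c • _
      rw [hsingle, mul_smul]
    obtain ⟨FN, hFN⟩ := emb N
    obtain ⟨FM, hFM⟩ := emb M
    have hcomm : ∀ z, f (FN z) = FM (fk z) := fun z ↦ by
      induction z using TensorProduct.induction_on with
      | zero => simp
      | tmul x y => rw [hFN, map_smul, LinearMap.baseChange_tmul, hFM]
      | add x y hx hy => simp only [map_add, hx, hy]
    refine ⟨(FN.restrictScalars B).comp hk, fun p ↦ ?_⟩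
    show f (FN (hk p)) = _
    rw [hcomm, hhk]
    exact hFM _ _
  choose hk hhk using h
  refine ⟨(∑ k, hk k).liftBaseChange S, TensorProduct.AlgebraTensorModule.ext fun c p ↦ ?_⟩
  rw [LinearMap.comp_apply, LinearMap.liftBaseChange_tmul, map_smul, LinearMap.sum_apply, map_sum]
  simp only [hhk, ← Finset.sum_smul]
  rw [show ∑ k, Pi.single k (1 : R k) = (1 : S) from Finset.univ_sum_single 1, one_smul]
  show c • ((1 : S) ⊗ₜ[B] p) = _
  rw [TensorProduct.smul_tmul', smul_eq_mul, mul_one]
  rfl

/-- Retractions exist. -/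
theorem exists_retraction (hI : I ^ 2 = ⊥) (π : E →ₐ[A] A ⧸ I)
    (hQ : ∀ x y, π x = 0 → π y = 0 → x * y = 0) {κ : Type} [Fintype κ] (g : κ → A)
    (hg : Ideal.span (Set.range g) = ⊤) (hlift : ∀ k, HasLifts I π (g k)) :
    ∃ r : E →ₐ[A] A, ∀ e, Ideal.Quotient.mk I (r e) = π e := by
  classical
  have hinj := algebraMap_injective hI π g hg hlift
  have := projective_kred π hQ g hg hlift
  let Q : Submodule A E := LinearMap.ker π.toLinearMap
  have hmul : ∀ (e : E) (q : E) (a : A), π q = 0 → π e = Ideal.Quotient.mk I a →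
      e * q = a • q := fun e q a hq he ↦ by
    have := hQ (e - algebraMap A E a) q (by rw [map_sub, AlgHom.commutes, he]; exact sub_self _) hq
    rwa [sub_mul, sub_eq_zero, ← Algebra.smul_def] at this
  have htors : Module.IsTorsionBySet A Q (I : Set A) := by
    rintro ⟨q, hq⟩ ⟨i, hi⟩
    refine Subtype.ext ?_
    show i • q = 0
    rw [Algebra.smul_def]
    exact hQ _ _ (by rw [AlgHom.commutes]; exact Ideal.Quotient.eq_zero_iff_mem.mpr hi) hq
  letI : Module (A ⧸ I) Q := htors.module
  haveI : IsScalarTower A (A ⧸ I) Q := htors.isScalarTower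
  let qmap : Q →ₗ[A ⧸ I] Kred π :=
    { toFun := fun q ↦ dee π q.1
      map_add' := fun x y ↦ map_add _ _ _
      map_smul' := fun c x ↦ by
        obtain ⟨a, rfl⟩ := Ideal.Quotient.mk_surjective c
        show dee π (a • x.1) = Ideal.Quotient.mk I a • dee π x.1
        rw [map_smul]
        exact (algebraMap_smul (A ⧸ I) a _).symm }
  obtain ⟨σ, hσ⟩ := Module.projective_lifting_property qmap LinearMap.id fun x ↦ by
    obtain ⟨e, he, he'⟩ := dee_surjective π x
    exact ⟨⟨e, he⟩, he'⟩
  let s : E →ₗ[A] E := LinearMap.id -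
    (Q.subtype.comp ((σ.restrictScalars A).comp (dee π)))
  have hs : ∀ e, ∃ a, algebraMap A E a = s e := by
    intro e
    obtain ⟨b, hb⟩ := Ideal.Quotient.mk_surjective (π e)
    have hq : π (σ (dee π e) : E) = 0 := (σ (dee π e)).2
    have h1 := congr_arg Subtype.val (LinearMap.congr_fun hσ (dee π e))
    rw [show ((qmap.comp σ) (dee π e) : Red I E) = dee π (σ (dee π e)).1 from rfl,
      dee_of_ker π hq] at h1
    have h2 : Ideal.Quotient.mk (I.map (algebraMap A E)) (s e - algebraMap A E b) = 0 := by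
      show Ideal.Quotient.mk _ (e - (σ (dee π e)).1 - algebraMap A E b) = 0
      rw [map_sub, map_sub, h1]
      show Ideal.Quotient.mk _ e - (Ideal.Quotient.mk _ e - algebraMap (A ⧸ I) (Red I E) (π e)) -
        _ = 0
      rw [← hb]
      exact sub_eq_zero.mpr (sub_sub_cancel _ _)
    rw [Ideal.Quotient.eq_zero_iff_mem] at h2
    have hle : ∀ z ∈ I.map (algebraMap A E), ∃ a, algebraMap A E a = z := by
      intro z hz
      induction hz using Submodule.span_induction with
      | mem z hz => obtain ⟨i, -, rfl⟩ := hz; exact ⟨i, rfl⟩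
      | zero => exact ⟨0, map_zero _⟩
      | add x y _ _ hx hy =>
        obtain ⟨a, rfl⟩ := hx; obtain ⟨c, rfl⟩ := hy; exact ⟨a + c, map_add _ _ _⟩
      | smul c z hz' hz =>
        obtain ⟨a, rfl⟩ := hz
        obtain ⟨d, hd⟩ := Ideal.Quotient.mk_surjective (π c)
        refine ⟨d * a, ?_⟩
        have hz0 : π (algebraMap A E a) = 0 := by
          have : I.map (algebraMap A E) ≤ RingHom.ker π.toRingHom := Ideal.map_le_iff_le_comap.mpr
            fun i hi ↦ (π.commutes i).trans (Ideal.Quotient.eq_zero_iff_mem.mpr hi)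
          exact this hz'
        rw [smul_eq_mul, hmul c _ d hz0 hd.symm, map_mul, Algebra.smul_def]
    obtain ⟨a, ha⟩ := hle _ h2
    exact ⟨a + b, by rw [map_add, ha, sub_add_cancel]⟩
  choose r hr using hs
  have hπr : ∀ e, Ideal.Quotient.mk I (r e) = π e := fun e ↦ by
    have := congr_arg π (hr e)
    rw [AlgHom.commutes, show s e = e - (σ (dee π e)).1 from rfl, map_sub,
      show π (σ (dee π e)).1 = 0 from (σ (dee π e)).2, sub_zero] at this
    exact this
  have hone : dee π (1 : E) = 0 := Subtype.ext (by simp [dee])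
  refine ⟨AlgHom.ofLinearMap
    { toFun := r
      map_add' := fun x y ↦ hinj (by rw [map_add, hr, hr, hr, map_add])
      map_smul' := fun c x ↦ hinj (by
        rw [RingHom.id_apply, smul_eq_mul, map_mul, hr, hr, map_smul, Algebra.smul_def]) }
    (hinj ?_) (fun x y ↦ hinj ?_), hπr⟩
  · show algebraMap A E (r 1) = _
    rw [hr, map_one (algebraMap A E)]
    simp [s, hone]
  · show algebraMap A E (r (x * y)) = algebraMap A E (r x * r y)
    rw [map_mul, hr, hr, hr]
    obtain ⟨a, ha⟩ := Ideal.Quotient.mk_surjective (π x)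
    obtain ⟨b, hb⟩ := Ideal.Quotient.mk_surjective (π y)
    have hd : dee π (x * y) = a • dee π y + b • dee π x := Subtype.ext (by
      have h0 : (x - algebraMap A E a) * (y - algebraMap A E b) = 0 :=
        hQ _ _ (by rw [map_sub, AlgHom.commutes, ← ha]; exact sub_self _)
          (by rw [map_sub, AlgHom.commutes, ← hb]; exact sub_self _)
      have h1 := congr_arg (Ideal.Quotient.mk (I.map (algebraMap A E))) h0
      simp only [dee, LinearMap.coe_mk, AddHom.coe_mk, map_mul, Submodule.coe_add,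
        SetLike.val_smul_of_tower, Algebra.smul_def]
      rw [map_mul, map_zero, map_sub, map_sub] at h1
      have e1 : ∀ c : A, Ideal.Quotient.mk (I.map (algebraMap A E)) (algebraMap A E c) =
          algebraMap (A ⧸ I) (Red I E) (Ideal.Quotient.mk I c) := fun c ↦ rfl
      have e2 : ∀ c : A, algebraMap A (Red I E) c =
          algebraMap (A ⧸ I) (Red I E) (Ideal.Quotient.mk I c) := fun c ↦ rfl
      rw [e1, e1] at h1
      rw [e2, e2, ha, hb] at *
      linear_combination h1)
    let u := σ (dee π x)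
    let v := σ (dee π y)
    have e3 : (σ (dee π (x * y)) : E) = a • (v : E) + b • (u : E) := by
      show (((σ.restrictScalars A) (dee π (x * y))) : E) = _
      rw [hd, map_add, map_smul, map_smul]
      rfl
    show x * y - (σ (dee π (x * y)) : E) = (x - (u : E)) * (y - (v : E))
    rw [e3, sub_mul, mul_sub, mul_sub, hQ _ _ u.2 v.2, hmul x v a v.2 ha.symm, mul_comm (u : E) y,
      hmul y u b u.2 hb.symm]
    ring

end FSmLib
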