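import Groth.Agent.FSmLib.Alg
import Groth.Prelude.Def_MoreMor
import Mathlib

/-! Morphisms which are formally smooth on affines lift against thickenings of affine schemes. -/

set_option autoImplicit false
universe u

open CategoryTheory CategoryTheory.Limits AlgebraicGeometry TopologicalSpace Opposite

namespace FSmLib

/-- The closed immersion `Spec (A ⧸ I) ⟶ Spec A`. -/
noncomputable abbrev jI {A : Type u} [CommRing A] (I : Ideal A) :
    Spec (CommRingCat.of (A ⧸ I)) ⟶ Spec (CommRingCat.of A) :=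
  Spec.map (CommRingCat.ofHom (Ideal.Quotient.mk I))

theorem surjective_jI {A : Type u} [CommRing A] {I : Ideal A} (hI : I ^ 2 = ⊥)
    (p : Spec (CommRingCat.of A)) : ∃ q, jI I q = p := by
  obtain ⟨q, hq⟩ : p ∈ Set.range (PrimeSpectrum.comap (Ideal.Quotient.mk I)) := by
    rw [range_comap_of_surjective _ _ Ideal.Quotient.mk_surjective, Ideal.mk_ker]
    show (I : Set A) ⊆ p.asIdeal
    exact fun i hi ↦ p.isPrime.mem_of_pow_mem 2 (by
      have : i ^ 2 ∈ I ^ 2 := Ideal.pow_mem_pow hi 2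
      rw [hI, Ideal.mem_bot] at this
      rw [this]; exact zero_mem _)
  exact ⟨q, hq⟩

theorem mul_eq_zero_of_jI {C : Type u} [CommRing C] {M : Ideal C} (hM : M ^ 2 = ⊥)
    (P : (Spec (CommRingCat.of C)).Opens) (x y : Γ(Spec (CommRingCat.of C), P))
    (hx : (jI M).app P x = 0) (hy : (jI M).app P y = 0) : x * y = 0 := by
  let S := Spec (CommRingCat.of C)
  have htop : ∀ z ∈ (jI M).ker.ideal ⟨⊤, isAffineOpen_top _⟩, (Scheme.ΓSpecIso (CommRingCat.of C)).hom z ∈ M := by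
    intro z hz
    have h1 : (jI M).appTop z = 0 := Scheme.Hom.ideal_ker_le _ _ hz
    have h2 := RingHom.congr_fun (congr_arg CommRingCat.Hom.hom
      (Scheme.ΓSpecIso_naturality (CommRingCat.ofHom (Ideal.Quotient.mk M)))) z
    refine Ideal.Quotient.eq_zero_iff_mem.mp (h2.symm.trans ?_)
    show (Scheme.ΓSpecIso _).hom ((jI M).appTop z) = 0
    rw [h1, map_zero]
  have hsq : (jI M).ker.ideal ⟨⊤, isAffineOpen_top _⟩ * (jI M).ker.ideal ⟨⊤, isAffineOpen_top _⟩ = ⊥ := by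
    rw [eq_bot_iff, Ideal.mul_le]
    intro r hr s hs
    rw [Ideal.mem_bot]
    refine (Scheme.ΓSpecIso (CommRingCat.of C)).commRingCatIsoToRingEquiv.injective ?_
    rw [map_zero, map_mul]
    exact (Submodule.mem_bot C).mp (hM ▸ (pow_two M).symm ▸ Ideal.mul_mem_mul (htop r hr) (htop s hs))
  refine S.sheaf.eq_of_locally_eq' (fun D : {D : S.affineOpens // D.1 ≤ P} ↦ D.1.1) P
    (fun D ↦ homOfLE D.2) (fun p hp ↦ ?_) _ _ fun D ↦ ?_
  · obtain ⟨D, hD, hpD, hDP⟩ := Opens.isBasis_iff_nbhd.mp S.isBasis_affineOpens hp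
    exact Opens.mem_iSup.mpr ⟨⟨⟨D, hD⟩, hDP⟩, hpD⟩
  · have hres : ∀ z : Γ(S, P), (jI M).app P z = 0 →
        S.presheaf.map (homOfLE D.2).op z ∈ (jI M).ker.ideal D.1 := fun z hz ↦ by
      rw [Scheme.Hom.ker_apply, RingHom.mem_ker, ← CommRingCat.comp_apply, Scheme.Hom.naturality,
        CommRingCat.comp_apply, hz, map_zero]
    show S.presheaf.map (homOfLE D.2).op (x * y) = S.presheaf.map (homOfLE D.2).op 0
    rw [map_mul, map_zero]
    have hm := Ideal.mul_mem_mul (hres x hx) (hres y hy)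
    rw [← (jI M).ker.map_ideal (U := D.1) (V := ⟨⊤, isAffineOpen_top _⟩) (fun _ _ ↦ trivial),
      ← Ideal.map_mul, hsq, Ideal.map_bot, Ideal.mem_bot] at hm
    exact hm

theorem mul_le_ker {C : Type u} [CommRing C] {M : Ideal C} (hM : M ^ 2 = ⊥) {W : Scheme.{u}}
    (w : Spec (CommRingCat.of C) ⟶ W) (J : W.IdealSheafData) (hJ : J ≤ (jI M ≫ w).ker) :
    J * J ≤ w.ker := by
  refine Scheme.IdealSheafData.le_ofIdeals_iff.mpr fun O ↦ ?_
  simp only [Scheme.IdealSheafData.ideal_mul, Pi.mul_apply, Ideal.mul_le]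
  intro x hx y hy
  rw [RingHom.mem_ker, map_mul]
  refine mul_eq_zero_of_jI hM _ _ _ ?_ ?_
  · exact Scheme.Hom.ideal_ker_le _ _ (hJ O hx)
  · exact Scheme.Hom.ideal_ker_le _ _ (hJ O hy)

variable {X Y : Scheme.{u}} (f : X ⟶ Y)
  (hf : ∀ (U : X.Opens) (V : Y.Opens) (_ : IsAffineOpen U) (_ : IsAffineOpen V) (hUV : U ≤ f ⁻¹ᵁ V),
    letI := (f.appLE V U hUV).hom.toAlgebra; Algebra.FormallySmooth Γ(Y, V) Γ(X, U))

include hf in
theorem exists_lift_affine {U : X.Opens} {V : Y.Opens} (hU : IsAffineOpen U) (hV : IsAffineOpen V)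
    (e : U ≤ f ⁻¹ᵁ V) {C : Type u} [CommRing C] {N : Ideal C} (hN : N ^ 2 = ⊥)
    (u : Spec (CommRingCat.of (C ⧸ N)) ⟶ X) (v : Spec (CommRingCat.of C) ⟶ Y)
    (hcomm : u ≫ f = jI N ≫ v) (hu : Set.range u ⊆ (U : Set X)) :
    ∃ w, jI N ≫ w = u ∧ w ≫ f = v := by
  have hv : Set.range v ⊆ Set.range hV.fromSpec := by
    rintro _ ⟨p, rfl⟩
    obtain ⟨q, rfl⟩ := surjective_jI hN p
    rw [hV.range_fromSpec, ← Scheme.Hom.comp_apply, ← hcomm, Scheme.Hom.comp_apply]
    exact e (hu ⟨q, rfl⟩)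
  rw [← hU.range_fromSpec] at hu
  let u' := IsOpenImmersion.lift hU.fromSpec u hu
  let v' := IsOpenImmersion.lift hV.fromSpec v hv
  have hu' : u' ≫ hU.fromSpec = u := IsOpenImmersion.lift_fac _ _ hu
  have hv' : v' ≫ hV.fromSpec = v := IsOpenImmersion.lift_fac _ _ hv
  letI := (f.appLE V U e).hom.toAlgebra
  letI : Algebra Γ(Y, V) C := (Spec.preimage v').hom.toAlgebra
  have hsq : f.appLE V U e ≫ Spec.preimage u' =
      Spec.preimage v' ≫ CommRingCat.ofHom (Ideal.Quotient.mk N) := Spec.map_injective (by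
    rw [← cancel_mono hV.fromSpec, Spec.map_comp, Spec.map_comp, Spec.map_preimage,
      Spec.map_preimage, Category.assoc, Category.assoc, hV.SpecMap_appLE_fromSpec f hU e,
      ← Category.assoc, hu', hv', hcomm])
  let φ : Γ(X, U) →ₐ[Γ(Y, V)] C ⧸ N :=
    { (Spec.preimage u').hom with
      commutes' := fun r ↦ RingHom.congr_fun (congr_arg CommRingCat.Hom.hom hsq) r }
  have := hf U V hU hV e
  obtain ⟨ψ, hψ⟩ := Algebra.FormallySmooth.comp_surjective Γ(Y, V) Γ(X, U) N hN φ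
  refine ⟨Spec.map (CommRingCat.ofHom ψ.toRingHom) ≫ hU.fromSpec, ?_, ?_⟩
  · rw [← hu', ← Category.assoc, ← Spec.map_comp, ← Spec.map_preimage u', ← CommRingCat.ofHom_comp]
    congr 2
    exact CommRingCat.hom_ext (congr_arg AlgHom.toRingHom hψ)
  · rw [← hv', Category.assoc, ← hV.SpecMap_appLE_fromSpec f hU e, ← Category.assoc,
      ← Spec.map_comp, ← Spec.map_preimage v']
    congr 2
    exact CommRingCat.hom_ext ψ.comp_algebraMap

theorem exists_cover {A : Type u} [CommRing A] {I : Ideal A} (hI : I ^ 2 = ⊥)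
    (a : Spec (CommRingCat.of (A ⧸ I)) ⟶ X) (b : Spec (CommRingCat.of A) ⟶ Y)
    (w : a ≫ f = jI I ≫ b) :
    ∃ (n : ℕ) (g : Fin n → A) (U : Fin n → X.Opens) (V : Fin n → Y.Opens),
      Ideal.span (Set.range g) = ⊤ ∧ ∀ k, IsAffineOpen (U k) ∧ IsAffineOpen (V k) ∧
        U k ≤ f ⁻¹ᵁ V k ∧
        (∀ p : Spec (CommRingCat.of A), p ∈ PrimeSpectrum.basicOpen (g k) → b p ∈ V k) ∧
        ∀ q : Spec (CommRingCat.of (A ⧸ I)),
          jI I q ∈ PrimeSpectrum.basicOpen (g k) → a q ∈ U k := by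
  classical
  have hemb : Topology.IsInducing (jI I) := (IsClosedImmersion.spec_of_surjective
    (CommRingCat.ofHom (Ideal.Quotient.mk I)) Ideal.Quotient.mk_surjective).isClosedEmbedding.isInducing
  have key : ∀ p : Spec (CommRingCat.of A), ∃ (g : A) (U : X.Opens) (V : Y.Opens),
      p ∈ PrimeSpectrum.basicOpen g ∧ IsAffineOpen U ∧ IsAffineOpen V ∧ U ≤ f ⁻¹ᵁ V ∧
        (∀ p : Spec (CommRingCat.of A), p ∈ PrimeSpectrum.basicOpen g → b p ∈ V) ∧
        ∀ q : Spec (CommRingCat.of (A ⧸ I)), jI I q ∈ PrimeSpectrum.basicOpen g → a q ∈ U := by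
    intro p
    obtain ⟨q, rfl⟩ := surjective_jI hI p
    obtain ⟨V, hV, hqV, -⟩ := Opens.isBasis_iff_nbhd.mp Y.isBasis_affineOpens
      (show f (a q) ∈ (⊤ : Y.Opens) from trivial)
    obtain ⟨U, hU, hqU, hUV⟩ := Opens.isBasis_iff_nbhd.mp X.isBasis_affineOpens
      (show a q ∈ f ⁻¹ᵁ V from hqV)
    obtain ⟨O, hO, hO'⟩ := hemb.isOpen_iff.mp (a ⁻¹ᵁ U).isOpen
    have hb : b (jI I q) ∈ V := by
      rw [← Scheme.Hom.comp_apply, ← w, Scheme.Hom.comp_apply]; exact hqV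
    have hqO : jI I q ∈ O := show q ∈ (jI I) ⁻¹' O by rw [hO']; exact hqU
    obtain ⟨_, ⟨g, rfl⟩, hqg, hgsub⟩ :=
      PrimeSpectrum.isTopologicalBasis_basic_opens.exists_subset_of_mem_open
        (show jI I q ∈ (b ⁻¹ᵁ V : Set _) ∩ O from ⟨hb, hqO⟩) ((b ⁻¹ᵁ V).isOpen.inter hO)
    refine ⟨g, U, V, hqg, hU, hV, hUV, fun p hp ↦ (hgsub hp).1, fun q' hq' ↦ ?_⟩
    show q' ∈ (a ⁻¹ᵁ U : Set _)
    rw [← hO']
    exact (hgsub hq').2
  choose g U V hg h using key
  have hcov : (Set.univ : Set (PrimeSpectrum A)) ⊆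
      ⋃ p, (PrimeSpectrum.basicOpen (g p) : Set (PrimeSpectrum A)) :=
    fun p _ ↦ Set.mem_iUnion.mpr ⟨p, hg p⟩
  obtain ⟨t, ht⟩ := isCompact_univ.elim_finite_subcover _
    (fun p ↦ (PrimeSpectrum.basicOpen (g p)).isOpen) hcov
  refine ⟨t.card, fun k ↦ g (t.equivFin.symm k), fun k ↦ U (t.equivFin.symm k),
    fun k ↦ V (t.equivFin.symm k), ?_, fun k ↦ h _⟩
  rw [← PrimeSpectrum.iSup_basicOpen_eq_top_iff, eq_top_iff]
  intro p _
  obtain ⟨q, hq, hpq⟩ := Set.mem_iUnion₂.mp (ht (Set.mem_univ p))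
  exact Opens.mem_iSup.mpr ⟨t.equivFin ⟨q, hq⟩, by simpa using hpq⟩

include hf in
/-- Morphisms which are formally smooth on affines have the infinitesimal lifting property. -/
theorem exists_lift {A : Type u} [CommRing A] {I : Ideal A} (hI : I ^ 2 = ⊥)
    (a : Spec (CommRingCat.of (A ⧸ I)) ⟶ X) (b : Spec (CommRingCat.of A) ⟶ Y)
    (w : a ≫ f = jI I ≫ b) : ∃ c, jI I ≫ c = a ∧ c ≫ f = b := by
  obtain ⟨n, g, U, V, hg, hUV⟩ := exists_cover f hI a b w
  let S := Spec (CommRingCat.of A)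
  let D : Fin n → S.Opens := fun k ↦ PrimeSpectrum.basicOpen (g k)
  have hD : ∀ k, IsAffineOpen (D k) := fun k ↦ IsAffineOpen.Spec_basicOpen (R := CommRingCat.of A) (g k)
  have hDtop : ⨆ k, D k = ⊤ := PrimeSpectrum.iSup_basicOpen_eq_top_iff.mpr hg
  let XA := pullback f b
  let U' : Fin n → XA.Opens := fun k ↦ pullback.fst f b ⁻¹ᵁ U k ⊓ pullback.snd f b ⁻¹ᵁ D k
  have hU' : ∀ k, IsAffineOpen (U' k) := by
    intro k
    obtain ⟨hUk, hVk, e, hbV, -⟩ := hUV k
    haveI : IsAffine (U k).toScheme := hUk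
    haveI : IsAffine (V k).toScheme := hVk
    haveI : IsAffine (D k).toScheme := hD k
    let fk := f.resLE (V k) (U k) e
    let bk := b.resLE (V k) (D k) (fun p hp ↦ hbV p hp)
    let m := pullback.map fk bk f b (U k).ι (D k).ι (V k).ι
      (Scheme.Hom.resLE_comp_ι _ _) (Scheme.Hom.resLE_comp_ι _ _)
    have hm : U' k = m.opensRange := by
      apply Opens.ext
      show _ = Set.range m
      rw [Scheme.Pullback.range_map]
      simp [U', XA]
    rw [hm]
    exact isAffineOpen_opensRange m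
  let W : XA.Opens := ⨆ k, U' k
  let s₀ : Spec (CommRingCat.of (A ⧸ I)) ⟶ XA := pullback.lift a (jI I) w
  have hs₁ : s₀ ≫ pullback.fst f b = a := pullback.lift_fst _ _ _
  have hs₂ : s₀ ≫ pullback.snd f b = jI I := pullback.lift_snd _ _ _
  have hmem : ∀ q k, jI I q ∈ D k → s₀ q ∈ U' k := by
    intro q k hq
    refine ⟨?_, ?_⟩
    · show pullback.fst f b (s₀ q) ∈ U k
      rw [← Scheme.Hom.comp_apply, hs₁]
      exact (hUV k).2.2.2.2 q hq
    · show pullback.snd f b (s₀ q) ∈ D k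
      rw [← Scheme.Hom.comp_apply, hs₂]
      exact hq
  have hexD : ∀ p : S, ∃ k, p ∈ D k := fun p ↦
    Opens.mem_iSup.mp (show p ∈ ⨆ k, D k by rw [hDtop]; trivial)
  have hs₀W : Set.range s₀ ⊆ Set.range W.ι := by
    rw [Scheme.Opens.range_ι]
    rintro _ ⟨q, rfl⟩
    obtain ⟨k, hk⟩ := hexD (jI I q)
    exact Opens.mem_iSup.mpr ⟨k, hmem q k hk⟩
  let sW := IsOpenImmersion.lift W.ι s₀ hs₀W
  have hsW : sW ≫ W.ι = s₀ := IsOpenImmersion.lift_fac _ _ hs₀W
  let pW : W.toScheme ⟶ S := W.ι ≫ pullback.snd f b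
  have hsp : sW ≫ pW = jI I := by rw [← Category.assoc, hsW, hs₂]
  let O : Fin n → W.toScheme.Opens := fun k ↦ W.ι ⁻¹ᵁ U' k
  have hO : ∀ k, IsAffineOpen (O k) := fun k ↦ (hU' k).preimage_of_isOpenImmersion W.ι (by
    rw [Scheme.Opens.opensRange_ι]; exact le_iSup U' k)
  have hOtop : ⨆ k, O k = ⊤ := eq_top_iff.mpr fun p _ ↦ by
    obtain ⟨k, hk⟩ := Opens.mem_iSup.mp (show p.1 ∈ W from p.2)
    exact Opens.mem_iSup.mpr ⟨k, hk⟩
  have hOD : ∀ k, O k ≤ pW ⁻¹ᵁ D k := fun k p hp ↦ hp.2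
  have hsO : ∀ k, sW ⁻¹ᵁ O k = jI I ⁻¹ᵁ D k := by
    intro k
    apply Opens.ext
    ext q
    constructor
    · intro hq
      show jI I q ∈ D k
      rw [← hsp]
      exact hOD k hq
    · intro hq
      show W.ι (sW q) ∈ U' k
      rw [← Scheme.Hom.comp_apply, hsW]
      exact hmem q k hq
  haveI : IsClosedImmersion sW := by
    rw [IsZariskiLocalAtTarget.iff_of_iSup_eq_top (P := @IsClosedImmersion) O hOtop]
    intro k
    let q₁ : (O k).toScheme ⟶ (D k).toScheme := pW.resLE (D k) (O k) (hOD k)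
    haveI : IsAffine (O k).toScheme := hO k
    haveI : IsAffine (D k).toScheme := hD k
    haveI : IsClosedImmersion (jI I) := IsClosedImmersion.spec_of_surjective
      (CommRingCat.ofHom (Ideal.Quotient.mk I)) Ideal.Quotient.mk_surjective
    have heq : (sW ∣_ O k) ≫ q₁ =
        ((Spec (CommRingCat.of (A ⧸ I))).isoOfEq (hsO k)).hom ≫ (jI I ∣_ D k) := by
      rw [← cancel_mono (D k).ι]
      simp only [q₁, Category.assoc, Scheme.Hom.resLE_comp_ι, morphismRestrict_ι,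
        morphismRestrict_ι_assoc, Scheme.isoOfEq_hom_ι_assoc, hsp]
    have : IsClosedImmersion ((sW ∣_ O k) ≫ q₁) := by rw [heq]; infer_instance
    exact IsClosedImmersion.of_comp (sW ∣_ O k) q₁
  let J := sW.ker
  let Z := (J * J).subscheme
  let ι : Z ⟶ W.toScheme := (J * J).subschemeι
  have hJJ : (J * J).subschemeι.ker ≤ sW.ker := by
    rw [Scheme.IdealSheafData.ker_subschemeι]
    intro O
    exact Ideal.mul_le_left
  let sZ : Spec (CommRingCat.of (A ⧸ I)) ⟶ Z := IsClosedImmersion.lift ι sW hJJ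
  have hsZ : sZ ≫ ι = sW := IsClosedImmersion.lift_fac _ _ _
  have hsurj : ∀ z : Z, ∃ q, sZ q = z := by
    intro z
    have hz : ι z ∈ Set.range sW := by
      have h1 : ι z ∈ ((J * J).support : Set W.toScheme) := by
        rw [← Scheme.IdealSheafData.range_subschemeι]; exact ⟨z, rfl⟩
      rw [Scheme.IdealSheafData.support_mul, sup_idem, Scheme.Hom.support_ker] at h1
      rwa [sW.isClosedEmbedding.isClosed_range.closure_eq] at h1
    obtain ⟨q, hq⟩ := hz
    exact ⟨q, ι.isClosedEmbedding.injective (by rw [← Scheme.Hom.comp_apply, hsZ]; exact hq)⟩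
  let pZ : Z ⟶ S := ι ≫ pW
  have hsZp : sZ ≫ pZ = jI I := by rw [← Category.assoc, hsZ, hsp]
  have hpre : ∀ k, pZ ⁻¹ᵁ D k = ι ⁻¹ᵁ O k := by
    intro k
    apply Opens.ext
    ext z
    obtain ⟨q, rfl⟩ := hsurj z
    show pZ (sZ q) ∈ D k ↔ ι (sZ q) ∈ O k
    rw [← Scheme.Hom.comp_apply, hsZp, ← Scheme.Hom.comp_apply, hsZ]
    show q ∈ jI I ⁻¹ᵁ D k ↔ q ∈ sW ⁻¹ᵁ O k
    rw [hsO]
  haveI : IsAffineHom pZ := isAffineHom_of_forall_exists_isAffineOpen _ fun p ↦ by
    obtain ⟨k, hk⟩ := hexD p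
    exact ⟨D k, hk, hD k, by rw [hpre]; exact (hO k).preimage ι⟩
  haveI : IsAffine Z := isAffine_of_isAffineHom pZ
  let E : CommRingCat.{u} := Γ(Z, ⊤)
  letI : Algebra A E := (Spec.preimage (Z.isoSpec.inv ≫ pZ)).hom.toAlgebra
  have hpZ : Spec.map (CommRingCat.ofHom (algebraMap A E)) = Z.isoSpec.inv ≫ pZ := by
    rw [RingHom.algebraMap_toAlgebra]
    exact Spec.map_preimage _
  let π₀ : E ⟶ CommRingCat.of (A ⧸ I) :=
    sZ.appTop ≫ (Scheme.ΓSpecIso (CommRingCat.of (A ⧸ I))).hom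
  have hπ₀ : Spec.map π₀ ≫ Z.isoSpec.inv = sZ := by
    rw [Spec.map_comp, Category.assoc, Scheme.isoSpec_inv_naturality, ← Category.assoc,
      ← Scheme.isoSpec_Spec_hom, Iso.hom_inv_id, Category.id_comp]
  have hπc : CommRingCat.ofHom (algebraMap A E) ≫ π₀ = CommRingCat.ofHom (Ideal.Quotient.mk I) :=
    Spec.map_injective (by rw [Spec.map_comp, hpZ, ← Category.assoc, hπ₀]; exact hsZp)
  let π : E →ₐ[A] A ⧸ I :=
    { π₀.hom with commutes' := fun r ↦ RingHom.congr_fun (congr_arg CommRingCat.Hom.hom hπc) r }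
  have hπtop : ∀ x : E, π x = 0 → sZ.appTop x = 0 := fun x hx ↦
    (Scheme.ΓSpecIso (CommRingCat.of (A ⧸ I))).commRingCatIsoToRingEquiv.injective
      (hx.trans (map_zero _).symm)
  have hQ : ∀ x y, π x = 0 → π y = 0 → x * y = 0 := by
    intro x y hx hy
    refine Z.sheaf.eq_of_locally_eq' (fun k ↦ ι ⁻¹ᵁ O k) ⊤ (fun k ↦ homOfLE le_top) ?_ _ _ ?_
    · intro z _
      obtain ⟨k, hk⟩ := Opens.mem_iSup.mp (show ι z ∈ ⨆ k, O k by rw [hOtop]; trivial)
      exact Opens.mem_iSup.mpr ⟨k, hk⟩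
    · intro k
      show Z.presheaf.map _ (x * y) = Z.presheaf.map _ 0
      rw [map_mul, map_zero]
      have hres : ∀ x : E, π x = 0 → ∃ x' ∈ J.ideal ⟨O k, hO k⟩,
          ι.app (O k) x' = Z.presheaf.map (homOfLE (le_top : ι ⁻¹ᵁ O k ≤ ⊤)).op x := by
        intro x hx
        obtain ⟨x', hx'⟩ := ι.app_surjective (O k) (hO k) (Z.presheaf.map (homOfLE le_top).op x)
        refine ⟨x', ?_, hx'⟩
        rw [Scheme.Hom.ker_apply, RingHom.mem_ker]
        have h1 : sZ.app (ι ⁻¹ᵁ O k) (ι.app (O k) x') = 0 := by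
          rw [hx', ← CommRingCat.comp_apply, Scheme.Hom.naturality, CommRingCat.comp_apply]
          exact (congr_arg _ (hπtop x hx)).trans (map_zero _)
        have h2 : (sZ ≫ ι).app (O k) x' = 0 := h1
        rwa [Scheme.Hom.congr_app hsZ (O k), CommRingCat.comp_apply,
          map_eq_zero_iff _ (ConcreteCategory.bijective_of_isIso _).1] at h2
      obtain ⟨x', hx', ex⟩ := hres x hx
      obtain ⟨y', hy', ey⟩ := hres y hy
      rw [← ex, ← ey, ← map_mul]
      have := Scheme.IdealSheafData.ker_subschemeι_app (J * J) ⟨O k, hO k⟩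
      rw [← RingHom.mem_ker, this, Scheme.IdealSheafData.ideal_mul]
      exact Ideal.mul_mem_mul hx' hy'
  have hlift : ∀ k, HasLifts I π (g k) := by
    intro k C _ _ hgC N M hNM hM φ hφ
    let v : Spec (CommRingCat.of C) ⟶ S := Spec.map (CommRingCat.ofHom (algebraMap A C))
    have hN : N ^ 2 = ⊥ := eq_bot_iff.mpr ((Ideal.pow_right_mono hNM 2).trans hM.le)
    have hv : ∀ p, v p ∈ D k := fun p hp ↦ p.isPrime.ne_top (Ideal.eq_top_of_isUnit_mem _ hp hgC)
    let u₀ : Spec (CommRingCat.of (C ⧸ N)) ⟶ Z :=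
      Spec.map (CommRingCat.ofHom φ.toRingHom) ≫ Z.isoSpec.inv
    have hu₀ : u₀ ≫ pZ = jI N ≫ v := by
      rw [Category.assoc, ← hpZ, ← Spec.map_comp, ← Spec.map_comp, ← CommRingCat.ofHom_comp,
        ← CommRingCat.ofHom_comp]
      exact congr_arg (fun t ↦ Spec.map (CommRingCat.ofHom t)) φ.comp_algebraMap
    have hu₀O : ∀ p, ι (u₀ p) ∈ O k := fun p ↦ by
      have : u₀ p ∈ pZ ⁻¹ᵁ D k := by
        show pZ (u₀ p) ∈ D k
        rw [← Scheme.Hom.comp_apply, hu₀]
        exact hv _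
      rw [hpre] at this
      exact this
    obtain ⟨hUk, hVk, e, -, -⟩ := hUV k
    obtain ⟨wX, hwX₁, hwX₂⟩ := exists_lift_affine f hf hUk hVk e hN
      (u₀ ≫ ι ≫ W.ι ≫ pullback.fst f b) (v ≫ b) (by
        simp only [Category.assoc, pullback.condition]
        rw [← Category.assoc (jI N), ← hu₀]
        simp only [pZ, pW, Category.assoc]) (by
        rintro _ ⟨p, rfl⟩
        exact (hu₀O p).1)
    let wA : Spec (CommRingCat.of C) ⟶ XA := pullback.lift wX v hwX₂
    have hwA : jI N ≫ wA = u₀ ≫ ι ≫ W.ι := by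
      apply pullback.hom_ext
      · simp only [wA, Category.assoc, pullback.lift_fst]; exact hwX₁
      · simp only [wA, Category.assoc, pullback.lift_snd]
        rw [← hu₀]
    have hwW : Set.range wA ⊆ Set.range W.ι := by
      rintro _ ⟨p, rfl⟩
      obtain ⟨q, rfl⟩ := surjective_jI hN p
      rw [← Scheme.Hom.comp_apply, hwA]
      exact ⟨_, rfl⟩
    let wW := IsOpenImmersion.lift W.ι wA hwW
    have hwW' : jI N ≫ wW = u₀ ≫ ι := by
      rw [← cancel_mono W.ι, Category.assoc, IsOpenImmersion.lift_fac, hwA]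
      simp only [Category.assoc]
    let qm : C ⧸ N →+* C ⧸ M := Ideal.Quotient.factor hNM
    let r : A ⧸ I →+* C ⧸ M := Ideal.Quotient.lift I ((Ideal.Quotient.mk M).comp (algebraMap A C))
      fun i hi ↦ by
        have h1 := hφ (algebraMap A E i) (by rw [π.commutes]; exact Ideal.Quotient.eq_zero_iff_mem.mpr hi)
        rw [φ.commutes] at h1
        exact Ideal.Quotient.eq_zero_iff_mem.mpr ((Ideal.mem_quotient_iff_mem hNM).mp h1)
    have hr : qm.comp φ.toRingHom = r.comp π.toRingHom := by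
      refine RingHom.ext fun e ↦ ?_
      obtain ⟨a, ha⟩ := Ideal.Quotient.mk_surjective (π e)
      have h0 : π (e - algebraMap A E a) = 0 := by
        rw [map_sub, AlgHom.commutes, ← ha]; exact sub_self _
      have h1 : qm (φ (e - algebraMap A E a)) = 0 := by
        obtain ⟨c, hc, hce⟩ :=
          (Ideal.mem_map_iff_of_surjective _ Ideal.Quotient.mk_surjective).mp (hφ _ h0)
        rw [← hce]
        exact Ideal.Quotient.eq_zero_iff_mem.mpr hc
      rw [map_sub, map_sub, sub_eq_zero, φ.commutes] at h1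
      show qm (φ e) = r (π e)
      rw [h1, ← ha]
      rfl
    have hker : J * J ≤ wW.ker := by
      refine mul_le_ker hM wW J ?_
      have e1 : jI M ≫ wW = Spec.map (CommRingCat.ofHom r) ≫ sW := by
        have : jI M = Spec.map (CommRingCat.ofHom qm) ≫ jI N := by
          rw [← Spec.map_comp, ← CommRingCat.ofHom_comp, Ideal.Quotient.factor_comp_mk]
        rw [this, Category.assoc, hwW', ← Category.assoc, ← Category.assoc, ← Spec.map_comp,
          ← CommRingCat.ofHom_comp, hr, CommRingCat.ofHom_comp, Spec.map_comp, Category.assoc,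
          Category.assoc]
        congr 1
        rw [← hsZ, ← hπ₀, Category.assoc]
        rfl
      rw [e1]
      exact Scheme.Hom.le_ker_comp _ _
    let wZ : Spec (CommRingCat.of C) ⟶ Z := IsClosedImmersion.lift ι wW
      (by rw [Scheme.IdealSheafData.ker_subschemeι]; exact hker)
    have hwZ : wZ ≫ ι = wW := IsClosedImmersion.lift_fac _ _ _
    let ψ₀ : E ⟶ CommRingCat.of C := Spec.preimage (wZ ≫ Z.isoSpec.hom)
    have hψ₀ : Spec.map ψ₀ ≫ Z.isoSpec.inv = wZ := by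
      rw [Spec.map_preimage, Category.assoc, Iso.hom_inv_id, Category.comp_id]
    have hc : CommRingCat.ofHom (algebraMap A E) ≫ ψ₀ = CommRingCat.ofHom (algebraMap A C) :=
      Spec.map_injective (by
        rw [Spec.map_comp, hpZ, ← Category.assoc, hψ₀, ← Category.assoc, hwZ, ← Category.assoc,
          IsOpenImmersion.lift_fac]
        exact pullback.lift_snd _ _ _)
    refine ⟨{ ψ₀.hom with
      commutes' := fun r ↦ RingHom.congr_fun (congr_arg CommRingCat.Hom.hom hc) r }, ?_⟩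
    have h3 : ψ₀ ≫ CommRingCat.ofHom (Ideal.Quotient.mk N) = CommRingCat.ofHom φ.toRingHom := by
      apply Spec.map_injective
      rw [Spec.map_comp, ← cancel_mono Z.isoSpec.inv, Category.assoc, hψ₀, ← cancel_mono ι,
        Category.assoc, hwZ]
      exact hwW'
    exact AlgHom.ext fun x ↦ RingHom.congr_fun (congr_arg CommRingCat.Hom.hom h3) x
  obtain ⟨r, hr⟩ := exists_retraction hI π hQ g hg hlift
  let c₀ : S ⟶ Z := Spec.map (CommRingCat.ofHom r.toRingHom) ≫ Z.isoSpec.inv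
  have hc₁ : jI I ≫ c₀ = sZ := by
    rw [← Category.assoc, ← Spec.map_comp, ← CommRingCat.ofHom_comp, ← hπ₀]
    congr 2
    exact CommRingCat.hom_ext (RingHom.ext hr)
  have hc₂ : c₀ ≫ pZ = 𝟙 S := by
    rw [Category.assoc, ← hpZ, ← Spec.map_comp, ← CommRingCat.ofHom_comp,
      show r.toRingHom.comp (algebraMap A E) = RingHom.id A from r.comp_algebraMap]
    exact Spec.map_id _
  refine ⟨c₀ ≫ ι ≫ W.ι ≫ pullback.fst f b, ?_, ?_⟩
  · rw [← Category.assoc, hc₁, ← Category.assoc, hsZ, ← Category.assoc, hsW, hs₁]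
  · simp only [Category.assoc, pullback.condition]
    have : c₀ ≫ ι ≫ W.ι ≫ pullback.snd f b = 𝟙 S := hc₂
    rw [reassoc_of% this]

end FSmLib
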